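import Cfsg.Prelude.Def_Local
import Cfsg.Agent.Lib.Cores.Components
import Mathlib.GroupTheory.SpecificGroups.Alternating.Simple

/-!
Pointwise stabilisers in alternating groups as standard subgroups.
-/

namespace CfsgLib.Components.Alt

open Subgroup Cfsg Equiv Equiv.Perm

theorem isQuasisimple_of_simple {H : Type*} [Group H] (hs : IsSimpleGroup H) (hc : center H = ⊥) :
    IsQuasisimple H := by
  refine ⟨⟨?_⟩, ?_⟩
  · rcases hs.eq_bot_or_eq_top_of_normal _ (inferInstance : (_root_.commutator H).Normal) with h | h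
    · exfalso
      rw [_root_.commutator_eq_bot_iff_center_eq_top, hc] at h
      exact bot_ne_top h
    · exact h
  · let e : H ⧸ center H ≃* H := (QuotientGroup.quotientMulEquivOfEq hc).trans QuotientGroup.quotientBot
    haveI : Nontrivial (H ⧸ center H) := e.toEquiv.nontrivial_congr.2 hs.toNontrivial
    exact IsSimpleGroup.isSimpleGroup_of_surjective e.symm.toMonoidHom e.symm.surjective

variable {α : Type*} [Fintype α] [DecidableEq α]

/-- The pointwise stabiliser of `S` in the alternating group. -/
def fixer (S : Finset α) : Subgroup (alternatingGroup α) where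
  carrier := {g | ∀ x ∈ S, g.1 x = x}
  one_mem' := fun x _ => rfl
  mul_mem' := fun {a b} ha hb x hx => by simp [hb x hx, ha x hx]
  inv_mem' := fun {a} ha x hx => by
    show a.1⁻¹ x = x
    exact Equiv.Perm.inv_eq_iff_eq.2 (ha x hx).symm

theorem mem_fixer {S : Finset α} {g : alternatingGroup α} : g ∈ fixer S ↔ ∀ x ∈ S, g.1 x = x := Iff.rfl

theorem commute_fixer {S : Finset α} {g h : alternatingGroup α} (hg : g ∈ fixer S) (hh : h ∈ fixer Sᶜ) :
    g * h = h * g := by
  refine Subtype.ext (Equiv.Perm.Disjoint.commute ?_).eq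
  intro x
  by_cases hx : x ∈ S
  · exact Or.inl (hg x hx)
  · exact Or.inr (hh x (Finset.mem_compl.2 hx))

/-- Two further points outside `S`, avoiding a given finite set. -/
theorem exists_two {S T : Finset α} (h : T.card + 2 ≤ Sᶜ.card) :
    ∃ a b, a ∉ S ∧ b ∉ S ∧ a ∉ T ∧ b ∉ T ∧ a ≠ b := by
  have h1 : 1 < (Sᶜ \ T).card := by
    have := Finset.le_card_sdiff T Sᶜ
    omega
  obtain ⟨a, ha, b, hb, hab⟩ := Finset.one_lt_card.1 h1
  simp only [Finset.mem_sdiff, Finset.mem_compl] at ha hb
  exact ⟨a, b, ha.1, hb.1, ha.2, hb.2, hab⟩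

theorem exists_threeCycle {S : Finset α} {i a b : α} (hi : i ∉ S) (ha : a ∉ S) (hb : b ∉ S)
    (hia : i ≠ a) (hib : i ≠ b) (hab : a ≠ b) :
    ∃ c : alternatingGroup α, c ∈ fixer S ∧ c.1 i = a ∧ c.1 a = b ∧ c.1 b = i ∧
      ∀ x, x ≠ i → x ≠ a → x ≠ b → c.1 x = x := by
  refine ⟨⟨Equiv.swap i a * Equiv.swap a b, ?_⟩, fun x hx => ?_, ?_, ?_, ?_, fun x h1 h2 h3 => ?_⟩
  · rw [Equiv.Perm.mem_alternatingGroup, map_mul, sign_swap hia, sign_swap hab]; rfl
  · have hxi : x ≠ i := fun h => hi (h ▸ hx)
    have hxa : x ≠ a := fun h => ha (h ▸ hx)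
    have hxb : x ≠ b := fun h => hb (h ▸ hx)
    simp [swap_apply_of_ne_of_ne, hxi, hxa, hxb]
  · simp [swap_apply_of_ne_of_ne, hia, hib]
  · simp [swap_apply_of_ne_of_ne, hib.symm, hab.symm]
  · simp [swap_apply_of_ne_of_ne]
  · simp [swap_apply_of_ne_of_ne, h1, h2, h3]

/-- The only points fixed by `fixer S` are those of `S`. -/
theorem mem_of_forall_fixed {S : Finset α} (h3 : 3 ≤ Sᶜ.card) {x : α} (h : ∀ g ∈ fixer S, g.1 x = x) : x ∈ S := by
  by_contra hx
  obtain ⟨a, b, ha, hb, hax, hbx, hab⟩ := exists_two (S := S) (T := {x}) (by simpa using h3)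
  rw [Finset.mem_singleton] at hax hbx
  obtain ⟨c, hc, hcx, -⟩ := exists_threeCycle hx ha hb (Ne.symm hax) (Ne.symm hbx) hab
  exact hax ((h c hc) ▸ hcx).symm

theorem mem_normalizer_fixer {S : Finset α} (h3 : 3 ≤ Sᶜ.card) {g : alternatingGroup α} :
    g ∈ normalizer (fixer S : Set (alternatingGroup α)) ↔ S.image g.1 = S := by
  constructor
  · intro hg
    refine Finset.eq_of_subset_of_card_le (fun y hy => ?_) ?_
    · obtain ⟨x, hx, rfl⟩ := Finset.mem_image.1 hy
      refine mem_of_forall_fixed h3 fun k hk => ?_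
      have h1 := (mem_normalizer_iff''.1 hg k).1 hk x hx
      simp only [Subgroup.coe_mul, InvMemClass.coe_inv, Perm.mul_apply] at h1
      exact Equiv.Perm.inv_eq_iff_eq.1 h1
    · rw [Finset.card_image_of_injective _ g.1.injective]
  · intro hS
    rw [mem_normalizer_iff'']
    intro k
    constructor
    · intro hk x hx
      have hgx : g.1 x ∈ S := hS ▸ Finset.mem_image_of_mem _ hx
      simp only [Subgroup.coe_mul, InvMemClass.coe_inv, Perm.mul_apply]
      rw [hk _ hgx]
      exact g.1.symm_apply_apply x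
    · intro hk y hy
      obtain ⟨x, hx, rfl⟩ : ∃ x ∈ S, g.1 x = y := Finset.mem_image.1 (hS.symm ▸ hy)
      have h1 := hk x hx
      simp only [Subgroup.coe_mul, InvMemClass.coe_inv, Perm.mul_apply] at h1
      exact Equiv.Perm.inv_eq_iff_eq.1 h1

theorem centralizer_fixer {S : Finset α} (h5 : 5 ≤ Sᶜ.card) :
    centralizer (fixer S : Set (alternatingGroup α)) = fixer Sᶜ := by
  refine le_antisymm (fun g hg i hi => ?_) fun g hg => mem_centralizer_iff.2 fun h hh => commute_fixer hh hg
  have hiS : i ∉ S := Finset.mem_compl.1 hi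
  obtain ⟨a, b, ha, hb, hai, hbi, hab⟩ := exists_two (S := S) (T := {i}) (by simp; omega)
  obtain ⟨d, e, hd, he, hdT, heT, hde⟩ := exists_two (S := S) (T := {i, a, b}) (by
    have := Finset.card_le_three (a := i) (b := a) (c := b); omega)
  simp only [Finset.mem_singleton, Finset.mem_insert, not_or] at hai hbi hdT heT
  obtain ⟨c₁, hc₁, h1i, -, -, h1o⟩ := exists_threeCycle hiS ha hb (Ne.symm hai) (Ne.symm hbi) hab
  obtain ⟨c₂, hc₂, h2i, -, -, h2o⟩ := exists_threeCycle hiS hd he (Ne.symm hdT.1) (Ne.symm heT.1) hde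
  have e1 : c₁.1 (g.1 i) = g.1 a := by
    have := congrArg (fun z : alternatingGroup α => z.1 i) (mem_centralizer_iff.1 hg c₁ hc₁)
    simpa [h1i] using this
  have e2 : c₂.1 (g.1 i) = g.1 d := by
    have := congrArg (fun z : alternatingGroup α => z.1 i) (mem_centralizer_iff.1 hg c₂ hc₂)
    simpa [h2i] using this
  by_contra hne
  by_cases hgi : g.1 i = a ∨ g.1 i = b
  · have h2 : c₂.1 (g.1 i) = g.1 i := by
      rcases hgi with h | h <;> rw [h]
      · exact h2o a hai (Ne.symm hdT.2.1) (Ne.symm heT.2.1)
      · exact h2o b hbi (Ne.symm hdT.2.2) (Ne.symm heT.2.2)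
    exact hdT.1 (g.1.injective (e2.symm.trans h2))
  · push Not at hgi
    exact hai (g.1.injective (e1.symm.trans (h1o _ hne hgi.1 hgi.2)))

theorem isQuasisimple_fixer {S : Finset α} (h5 : 5 ≤ Sᶜ.card) : IsQuasisimple (fixer S) := by
  have hcard : 5 ≤ Nat.card {x // x ∉ S} := by
    rw [Nat.card_eq_fintype_card, Fintype.card_subtype_compl, Fintype.card_coe]
    rwa [Finset.card_compl] at h5
  let f : alternatingGroup {x // x ∉ S} →* fixer S :=
    MonoidHom.mk'
      (fun g => ⟨⟨ofSubtype g.1, by
          rw [Equiv.Perm.mem_alternatingGroup, sign_ofSubtype]; exact Equiv.Perm.mem_alternatingGroup.1 g.2⟩,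
        fun x hx => ofSubtype_apply_of_not_mem g.1 (by simpa using hx)⟩)
      (fun g h => Subtype.ext (Subtype.ext (map_mul ofSubtype g.1 h.1)))
  have hf : Function.Bijective f := by
    refine ⟨fun g h he => Subtype.ext (ofSubtype_injective (congrArg (fun z : fixer S => z.1.1) he)), fun k => ?_⟩
    have hiff : ∀ x, k.1.1 x ∉ S ↔ x ∉ S := by
      refine fun x => not_congr ⟨fun h => ?_, fun h => (k.2 x h).symm ▸ h⟩
      have := k.2 _ h
      rwa [k.1.1.injective this] at h
    have h2 : ∀ x, k.1.1 x ≠ x → x ∉ S := fun x hx h => hx (k.2 x h)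
    refine ⟨⟨k.1.1.subtypePerm hiff, ?_⟩, Subtype.ext (Subtype.ext (ofSubtype_subtypePerm hiff h2))⟩
    rw [Equiv.Perm.mem_alternatingGroup, ← sign_ofSubtype, ofSubtype_subtypePerm hiff h2]
    exact Equiv.Perm.mem_alternatingGroup.1 k.1.2
  exact Cores.isQuasisimple_of_equiv (MulEquiv.ofBijective f hf)
    (isQuasisimple_of_simple (alternatingGroup.isSimpleGroup hcard) (alternatingGroup.center_eq_bot (by omega)))

theorem mem_map_conj_fixer {S : Finset α} {g k : alternatingGroup α} :
    k ∈ (fixer S).map (MulAut.conj g).toMonoidHom ↔ k ∈ fixer (S.image g.1) := by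
  constructor
  · rintro ⟨h, hh, rfl⟩ y hy
    obtain ⟨x, hx, rfl⟩ := Finset.mem_image.1 hy
    simp [hh x hx]
  · intro hk
    refine ⟨g⁻¹ * k * g, fun x hx => ?_, ?_⟩
    · simp [hk _ (Finset.mem_image_of_mem _ hx)]
    · simp [mul_assoc]

/-- The fixer of four points is a standard subgroup of the alternating group of degree at least nine. -/
theorem isStandardSubgroup_fixer {S : Finset α} (h4 : S.card = 4) (h9 : 9 ≤ Fintype.card α) :
    IsStandardSubgroup (fixer S) := by
  have hc : Sᶜ.card + 4 = Fintype.card α := by rw [← h4]; exact Finset.card_compl_add_card S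
  have h5 : 5 ≤ Sᶜ.card := by omega
  have hcc : Sᶜᶜ = S := compl_compl S
  have hnK : ∀ g : alternatingGroup α,
      g ∈ normalizer (fixer Sᶜ : Set (alternatingGroup α)) ↔ S.image g.1 = S := by
    intro g
    rw [mem_normalizer_fixer (by rw [hcc]; omega), ← Finset.coe_inj, Finset.coe_image, Finset.coe_compl,
      Set.image_compl_eq g.1.bijective, compl_inj_iff, ← Finset.coe_image, Finset.coe_inj]
  refine ⟨isQuasisimple_fixer h5, ?_, fun g hg => ?_, ?_⟩
  · rw [centralizer_fixer h5]
    refine ⟨?_, fun g hg => ?_⟩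
    · rw [even_iff_two_dvd]
      obtain ⟨a, b, c, d, hab, hac, had, hbc, hbd, hcd, rfl⟩ := Finset.card_eq_four.1 h4
      let t : alternatingGroup α := ⟨swap a b * swap c d, by
        rw [Equiv.Perm.mem_alternatingGroup, map_mul, sign_swap hab, sign_swap hcd]; rfl⟩
      have ht : t ∈ fixer ({a, b, c, d} : Finset α)ᶜ := fun x hx => by
        simp only [Finset.mem_compl, Finset.mem_insert, Finset.mem_singleton, not_or] at hx
        simp [t, swap_apply_of_ne_of_ne, hx.1, hx.2.1, hx.2.2.1, hx.2.2.2]
      have hord : orderOf t = 2 := by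
        refine orderOf_eq_prime ?_ fun h => ?_
        · refine Subtype.ext ?_
          show (swap a b * swap c d) ^ 2 = 1
          rw [(Equiv.Perm.Disjoint.commute (fun x => ?_)).mul_pow, pow_two, pow_two, swap_mul_self, swap_mul_self,
            one_mul]
          by_cases h1 : x = a
          · exact Or.inr (by subst h1; simp [swap_apply_of_ne_of_ne, hac, had])
          by_cases h2 : x = b
          · exact Or.inr (by subst h2; simp [swap_apply_of_ne_of_ne, hbc, hbd])
          exact Or.inl (swap_apply_of_ne_of_ne h1 h2)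
        · have := congrArg (fun z : alternatingGroup α => z.1 a) h
          simp [t, swap_apply_of_ne_of_ne, hac, had, hab.symm] at this
      exact hord ▸ Subgroup.orderOf_dvd_natCard _ ht
    · rw [hnK] at hg
      set I := fixer Sᶜ ⊓ (fixer Sᶜ).map (MulAut.conj g).toMonoidHom
      set T := S ∩ S.image g.1
      have hT : T.card ≤ 3 := by
        by_contra h
        apply hg
        have h1 : T = S := Finset.eq_of_subset_of_card_le Finset.inter_subset_left (by omega)
        refine (Finset.eq_of_subset_of_card_le (Finset.inter_eq_left.1 h1) ?_).symm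
        rw [Finset.card_image_of_injective _ g.1.injective]
      have hfix : ∀ k ∈ I, ∀ x, x ∉ T → k.1 x = x := by
        rintro k ⟨hk1, hk2⟩ x hx
        replace hk2 := mem_map_conj_fixer.1 hk2
        by_cases hxS : x ∈ S
        · refine hk2 x ?_
          have hx2 : x ∉ S.image g.1 := fun h => hx (Finset.mem_inter.2 ⟨hxS, h⟩)
          refine Finset.mem_image.2 ⟨g.1⁻¹ x, Finset.mem_compl.2 fun h => hx2 ?_, by simp⟩
          exact Finset.mem_image.2 ⟨_, h, by simp⟩
        · exact hk1 x (Finset.mem_compl.2 hxS)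
      rw [← Nat.not_even_iff_odd, even_iff_two_dvd]
      intro hdvd
      haveI : Fact (Nat.Prime 2) := ⟨Nat.prime_two⟩
      obtain ⟨k, hk⟩ := exists_prime_orderOf_dvd_card' 2 hdvd
      have hk2 : k.1.1 ^ 2 = 1 := by
        have := pow_orderOf_eq_one k
        rw [hk] at this
        exact congrArg (fun z : I => z.1.1) this
      have hk1 : k.1.1 ≠ 1 := fun h => by
        rw [show k = 1 from Subtype.ext (Subtype.ext h), orderOf_one] at hk
        omega
      have hsupp : k.1.1.support ⊆ T := fun x hx => by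
        by_contra h
        exact Equiv.Perm.mem_support.1 hx (hfix k.1 k.2 x h)
      have heven : Equiv.Perm.sign k.1.1 = 1 := Equiv.Perm.mem_alternatingGroup.1 k.1.2
      have hle : k.1.1.support.card ≤ 3 := (Finset.card_le_card hsupp).trans hT
      obtain ⟨x, hx⟩ : ∃ x, k.1.1 x ≠ x := by
        by_contra h
        push Not at h
        exact hk1 (Equiv.ext h)
      have hkk : k.1.1 (k.1.1 x) = x := by
        rw [← Perm.mul_apply, ← pow_two, hk2]; rfl
      have hsw : k.1.1 = swap x (k.1.1 x) := by
        refine Equiv.ext fun y => ?_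
        by_cases hyx : y = x
        · rw [hyx, swap_apply_left]
        by_cases hykx : y = k.1.1 x
        · rw [hykx, swap_apply_right, hkk]
        rw [swap_apply_of_ne_of_ne hyx hykx]
        by_contra hy
        have h4' : ({x, k.1.1 x, y, k.1.1 y} : Finset α) ⊆ k.1.1.support := by
          have hsup : ∀ z, k.1.1 z ≠ z → z ∈ k.1.1.support := fun z hz => Equiv.Perm.mem_support.2 hz
          intro z hz
          simp only [Finset.mem_insert, Finset.mem_singleton] at hz
          rcases hz with rfl | rfl | rfl | rfl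
          · exact hsup _ hx
          · exact hsup _ fun h => hx (k.1.1.injective h)
          · exact hsup _ hy
          · exact hsup _ fun h => hy (k.1.1.injective h)
        have := Finset.card_le_card h4'
        have hne1 : k.1.1 x ≠ k.1.1 y := fun h => hyx (k.1.1.injective h).symm
        have hne2 : x ≠ k.1.1 y := fun h => hykx (by rw [h, ← Perm.mul_apply, ← pow_two, hk2]; rfl)
        rw [Finset.card_insert_of_notMem (by simp [Ne.symm hx, Ne.symm hyx, hne2]),
          Finset.card_insert_of_notMem (by simp [Ne.symm hykx, hne1]),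
          Finset.card_insert_of_notMem (by simp [Ne.symm hy]), Finset.card_singleton] at this
        omega
      rw [hsw, sign_swap (Ne.symm hx)] at heven
      exact absurd heven (by decide)
  · intro hcom
    have hmap : (fixer S).map (MulAut.conj g).toMonoidHom = fixer (S.image g.1) :=
      Subgroup.ext fun k => mem_map_conj_fixer
    have h5' : 5 ≤ (S.image g.1)ᶜ.card := by
      have := Finset.card_image_of_injective S g.1.injective
      rw [Finset.card_compl] at *
      omega
    rw [commutator_eq_bot_iff_le_centralizer, hmap, centralizer_fixer h5'] at hcom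
    have hsub : (S.image g.1)ᶜ ⊆ S := fun x hx => mem_of_forall_fixed (by omega) fun k hk => hcom hk x hx
    have := Finset.card_le_card hsub
    omega
  · ext g
    rw [centralizer_fixer h5, mem_normalizer_fixer (by omega), hnK]

end CfsgLib.Components.Alt
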