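import Cfsg.Prelude.Def_Balance
import Cfsg.Agent.Lib.Cores.Fitting
import Cfsg.Agent.Lib.Solvable.Fitting
import Cfsg.Agent.Lib.Solvable.CoprimeAction
import Cfsg.Agent.Lib.LocalEven.DihedralCriterion

/-!
Thompson's dihedral lemma: an elementary abelian 2-group acting faithfully on a solvable group of odd order.
-/

namespace CfsgLib.Components

open Subgroup Cfsg
open scoped commutatorElement

variable {G : Type*} [Group G] [Finite G]

omit [Finite G] in
theorem eq_one_of_mul_self_eq_one {H : Subgroup G} (hH : Odd (Nat.card H)) {z : G} (hz : z ∈ H) (h : z * z = 1) :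
    z = 1 := by
  have h1 : orderOf z ∣ 2 := orderOf_dvd_of_pow_eq_one (by rw [pow_two, h])
  have h2 : orderOf z ∣ Nat.card H := Subgroup.orderOf_dvd_natCard H hz
  rw [← orderOf_eq_one_iff]
  exact Nat.eq_one_of_dvd_coprimes (Nat.coprime_two_left.2 hH) h1 h2

omit [Finite G] in
/-- An involutory automorphism of an odd group `K` fixing `V ◁ K` pointwise, `C_K(V) ≤ V`, is trivial. -/
theorem commute_of_centralizer_le {K V : Subgroup G} (hK : Odd (Nat.card K)) (hVK : V ≤ K)
    (hn : K ≤ normalizer (V : Set G)) (hC : K ⊓ centralizer (V : Set G) ≤ V) {a : G} (ha : a * a = 1)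
    (haK : a ∈ normalizer (K : Set G)) (hfix : ∀ v ∈ V, a * v = v * a) {g : G} (hg : g ∈ K) : a * g = g * a := by
  set z := g⁻¹ * (a * g * a⁻¹) with hz
  have hgK : a * g * a⁻¹ ∈ K := (mem_normalizer_iff.1 haK g).1 hg
  have hzC : z ∈ centralizer (V : Set G) := by
    rw [mem_centralizer_iff]
    intro v hv
    have h1 : g * v * g⁻¹ ∈ V := (mem_normalizer_iff.1 (hn hg) v).1 hv
    have hv' : a⁻¹ * v * a = v := by rw [mul_assoc, ← hfix v hv, inv_mul_cancel_left]
    have h2 : a * g * v * g⁻¹ * a⁻¹ = g * v * g⁻¹ := by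
      rw [show a * g * v * g⁻¹ * a⁻¹ = a * (g * v * g⁻¹) * a⁻¹ by group, hfix _ h1, mul_inv_cancel_right]
    calc v * z = g⁻¹ * (g * v * g⁻¹) * (a * g * a⁻¹) := by rw [hz]; group
      _ = g⁻¹ * (a * g * v * g⁻¹ * a⁻¹) * (a * g * a⁻¹) := by rw [h2]
      _ = g⁻¹ * (a * g * (a⁻¹ * v * a) * g⁻¹ * a⁻¹) * (a * g * a⁻¹) := by rw [hv']
      _ = z * v * 1 := by rw [hz]; group
      _ = z * v := mul_one _
  have hzV : z ∈ V := hC ⟨K.mul_mem (K.inv_mem hg) hgK, hzC⟩
  have hainv : a⁻¹ = a := inv_eq_of_mul_eq_one_right ha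
  have haz : a * z * a⁻¹ = z := by rw [hfix z hzV, mul_inv_cancel_right]
  have hzz : z * z = 1 := by
    calc z * z = z * (a * z * a⁻¹) := by rw [haz]
      _ = g⁻¹ * (a * g * a⁻¹) * (a * (g⁻¹ * (a * g * a⁻¹)) * a⁻¹) := by rw [hz]
      _ = g⁻¹ * ((a * a) * g * (a⁻¹ * a⁻¹)) := by group
      _ = 1 := by rw [hainv, ha]; group
  have h1 : z = 1 := eq_one_of_mul_self_eq_one hK (K.mul_mem (K.inv_mem hg) hgK) hzz
  have h2 : a * g * a⁻¹ = g := by rw [hz, inv_mul_eq_one] at h1; exact h1.symm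
  exact mul_inv_eq_iff_eq_mul.1 h2

/-- Simultaneous eigenvectors for commuting involutions on an odd abelian section `D / U`. -/
theorem exists_eigen {D U A : Subgroup G} (hUD : U ≤ D) (hD : Odd (Nat.card D))
    (hnU : D ≤ normalizer (U : Set G)) (hcomm : ∀ x ∈ D, ∀ y ∈ D, ⁅x, y⁆ ∈ U)
    (hAD : A ≤ normalizer (D : Set G)) (hAU : A ≤ normalizer (U : Set G))
    (hA1 : ∀ a ∈ A, a * a = 1) (hAc : ∀ a ∈ A, ∀ b ∈ A, a * b = b * a) (hne : ¬ D ≤ U) :
    ∃ x ∈ D, x ∉ U ∧ ∀ a ∈ A, a * x * a⁻¹ * x⁻¹ ∈ U ∨ a * x * a⁻¹ * x ∈ U := by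
  haveI : (U.subgroupOf D).Normal := (normal_subgroupOf_iff_le_normalizer hUD).2 hnU
  let π := QuotientGroup.mk' (U.subgroupOf D)
  have hπ : ∀ u : D, π u = 1 ↔ (u : G) ∈ U := fun u => (QuotientGroup.eq_one_iff u).trans mem_subgroupOf
  have hπc : ∀ u v : D, Commute (π u) (π v) := fun u v => by
    rw [commute_iff_eq, ← commutatorElement_eq_one_iff_mul_comm, ← map_commutatorElement, hπ]
    exact hcomm u u.2 v v.2
  let γ : ∀ a : G, a ∈ A → (D →* D) := fun a ha =>
    ((MulAut.conj a).toMonoidHom.comp D.subtype).codRestrict D fun d => (mem_normalizer_iff.1 (hAD ha) _).1 d.2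
  have hγU : ∀ a (ha : a ∈ A) (u v : D), π u = π v → π (γ a ha u) = π (γ a ha v) := by
    intro a ha u v h
    have h1 : π (u⁻¹ * v) = 1 := by rw [map_mul, map_inv, h, inv_mul_cancel]
    have h2 : π (γ a ha (u⁻¹ * v)) = 1 := (hπ _).2 ((mem_normalizer_iff.1 (hAU ha) _).1 ((hπ _).1 h1))
    rwa [map_mul, map_inv, map_mul, map_inv, inv_mul_eq_one] at h2
  suffices key : ∀ s : Set G, s.Finite → s ⊆ A → ∃ x : D, (x : G) ∉ U ∧
      ∀ a, a ∈ s → ∀ ha : a ∈ A, π (γ a ha x) = π x ∨ π (γ a ha x) = (π x)⁻¹ by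
    obtain ⟨x, hx, h⟩ := key A (Set.toFinite _) subset_rfl
    refine ⟨x, x.2, hx, fun a ha => (h a ha ha).imp (fun h1 => ?_) fun h1 => ?_⟩
    · exact (hπ (γ a ha x * x⁻¹)).1 (by rw [map_mul, map_inv, h1, mul_inv_cancel])
    · exact (hπ (γ a ha x * x)).1 (by rw [map_mul, h1, inv_mul_cancel])
  intro s hs
  induction s, hs using Set.Finite.induction_on with
  | empty =>
    intro _
    obtain ⟨x, hx, hx'⟩ := SetLike.not_le_iff_exists.1 hne
    exact ⟨⟨x, hx⟩, hx', fun a h => h.elim⟩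
  | @insert a s _ _ ih =>
    intro hsA
    obtain ⟨haA, hsA⟩ := Set.insert_subset_iff.1 hsA
    obtain ⟨x, hx, h⟩ := ih hsA
    set c := γ a haA x with hc
    have hcc : γ a haA c = x := by
      refine Subtype.ext ?_
      show a * (a * (x : G) * a⁻¹) * a⁻¹ = x
      rw [show a * (a * (x : G) * a⁻¹) * a⁻¹ = (a * a) * x * (a * a)⁻¹ by group, hA1 a haA]
      group
    have hgood : ∀ b, b ∈ s → ∀ hb : b ∈ A, (π (γ b hb x) = π x ∧ π (γ b hb c) = π c) ∨
        (π (γ b hb x) = (π x)⁻¹ ∧ π (γ b hb c) = (π c)⁻¹) := by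
      intro b hbs hb
      have hbc : γ b hb c = γ a haA (γ b hb x) := by
        refine Subtype.ext ?_
        show b * (a * (x : G) * a⁻¹) * b⁻¹ = a * (b * (x : G) * b⁻¹) * a⁻¹
        calc b * (a * (x : G) * a⁻¹) * b⁻¹ = (b * a) * x * (b * a)⁻¹ := by group
          _ = (a * b) * x * (a * b)⁻¹ := by rw [hAc b hb a haA]
          _ = _ := by group
      rcases h b hbs hb with h1 | h1
      · exact Or.inl ⟨h1, by rw [hbc]; exact hγU a haA _ _ h1⟩
      · refine Or.inr ⟨h1, ?_⟩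
        rw [hbc, hγU a haA _ x⁻¹ (by rw [h1, map_inv]), map_inv, map_inv]
    by_cases h1 : ((x * c : D) : G) ∈ U
    · refine ⟨x, hx, fun b hb hbA => hb.elim ?_ fun hb => h b hb hbA⟩
      rintro rfl
      right
      have h2 : π x * π c = 1 := by rw [← map_mul]; exact (hπ _).2 h1
      exact eq_inv_of_mul_eq_one_right h2
    · refine ⟨x * c, h1, fun b hb hbA => hb.elim ?_ fun hb => ?_⟩
      · rintro rfl
        left
        rw [map_mul (γ b hbA), hcc, ← hc, map_mul, map_mul]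
        exact (hπc c x).eq
      · rcases hgood b hb hbA with ⟨h2, h3⟩ | ⟨h2, h3⟩
        · left; rw [map_mul (γ b hbA), map_mul, map_mul, h2, h3]
        · right; rw [map_mul (γ b hbA), map_mul, map_mul, h2, h3, mul_inv_rev]
          exact ((hπc x c).inv_inv).eq

omit [Finite G] in
theorem le_normalizer_sup {A H K : Subgroup G} (hH : A ≤ normalizer (H : Set G)) (hK : A ≤ normalizer (K : Set G)) :
    A ≤ normalizer ((H ⊔ K : Subgroup G) : Set G) := fun b hb => by
  rw [mem_normalizer_iff_map_conj_eq, Subgroup.map_sup, mem_normalizer_iff_map_conj_eq.1 (hH hb),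
    mem_normalizer_iff_map_conj_eq.1 (hK hb)]

omit [Finite G] in
theorem le_normalizer_commutator {A H K : Subgroup G} (hH : A ≤ normalizer (H : Set G))
    (hK : A ≤ normalizer (K : Set G)) : A ≤ normalizer ((⁅H, K⁆ : Subgroup G) : Set G) := fun b hb => by
  rw [mem_normalizer_iff_map_conj_eq, map_commutator, mem_normalizer_iff_map_conj_eq.1 (hH hb),
    mem_normalizer_iff_map_conj_eq.1 (hK hb)]

/-- A maximal abelian invariant normal subgroup of an odd nilpotent group is self-centralizing. -/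
theorem exists_abelian_selfCentralizing {F A : Subgroup G} (hF : Group.IsNilpotent F) (hFodd : Odd (Nat.card F))
    (hAF : A ≤ normalizer (F : Set G)) (hA1 : ∀ a ∈ A, a * a = 1) (hAc : ∀ a ∈ A, ∀ b ∈ A, a * b = b * a) :
    ∃ U : Subgroup G, U ≤ F ∧ (∀ x ∈ U, ∀ y ∈ U, x * y = y * x) ∧ F ≤ normalizer (U : Set G) ∧
      A ≤ normalizer (U : Set G) ∧ F ⊓ centralizer (U : Set G) ≤ U := by
  let P : Subgroup G → Prop := fun U => U ≤ F ∧ (∀ x ∈ U, ∀ y ∈ U, x * y = y * x) ∧ F ≤ normalizer (U : Set G) ∧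
      A ≤ normalizer (U : Set G)
  have hP0 : P ⊥ := ⟨bot_le, fun x hx y hy => by rw [mem_bot] at hx hy; rw [hx, hy],
    le_top.trans (normalizer_eq_top_iff.2 inferInstance).ge, le_top.trans (normalizer_eq_top_iff.2 inferInstance).ge⟩
  obtain ⟨U, -, hPU, hmax⟩ := Finite.exists_le_maximal (p := P) (a := ⊥) hP0
  obtain ⟨hUF, hUc, hFU, hAU⟩ := hPU
  refine ⟨U, hUF, hUc, hFU, hAU, ?_⟩
  by_contra hcon
  set C := F ⊓ centralizer (U : Set G) with hC
  have hUC : U ≤ C := le_inf hUF fun x hx => mem_centralizer_iff.2 fun y hy => hUc y hy x hx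
  have hFC : F ≤ normalizer (C : Set G) :=
    Solvable.le_normalizer_inf le_normalizer (hFU.trans (Solvable.normalizer_le_normalizer_centralizer U))
  have hAC : A ≤ normalizer (C : Set G) :=
    Solvable.le_normalizer_inf hAF (hAU.trans (Solvable.normalizer_le_normalizer_centralizer U))
  obtain ⟨D, -, ⟨hUD, hne, hDC, hFD, hAD⟩, hmin⟩ := exists_minimal_le_of_wellFoundedLT
    (fun D : Subgroup G => U ≤ D ∧ ¬ D ≤ U ∧ D ≤ C ∧ F ≤ normalizer (D : Set G) ∧ A ≤ normalizer (D : Set G))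
    C ⟨hUC, hcon, le_rfl, hFC, hAC⟩
  have hDF : D ≤ F := hDC.trans inf_le_left
  have hDFle : ⁅D, F⁆ ≤ D := commutator_le.2 fun d hd f hf => by
    rw [commutatorElement_def, mul_assoc, mul_assoc]
    refine D.mul_mem hd ?_
    rw [← mul_assoc]
    exact (mem_normalizer_iff.1 (hFD hf) _).1 (D.inv_mem hd)
  have hDFU : ⁅D, F⁆ ≤ U := by
    by_contra hnot
    set D' := U ⊔ ⁅D, F⁆
    have hD'D : D' ≤ D := sup_le hUD hDFle
    have hle : D ≤ D' := hmin (y := D') ⟨le_sup_left, fun h => hnot (le_sup_right.trans h), hD'D.trans hDC,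
      le_normalizer_sup hFU (le_normalizer_commutator hFD le_normalizer),
      le_normalizer_sup hAU (le_normalizer_commutator hAD hAF)⟩ hD'D
    have key : ∀ k, D ≤ U ⊔ Subgroup.lowerCentralSeries F k := by
      intro k
      induction k with
      | zero => exact hDF.trans (le_of_le_of_eq le_sup_right (by rw [Subgroup.lowerCentralSeries_zero]))
      | succ k ih =>
        refine hle.trans (sup_le le_sup_left (commutator_le.2 fun d hd f hf => ?_))
        obtain ⟨u, hu, w, hw, rfl⟩ :=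
          Solvable.exists_mul_of_mem_sup ((Subgroup.lowerCentralSeries_le_self F k).trans hFU) (ih hd)
        rw [show ⁅u * w, f⁆ = u * ⁅w, f⁆ * u⁻¹ * ⁅u, f⁆ by simp only [commutatorElement_def]; group]
        refine Subgroup.mul_mem _ (Subgroup.mul_mem _ (Subgroup.mul_mem _ (mem_sup_left hu) (mem_sup_right ?_))
          (mem_sup_left (U.inv_mem hu))) (mem_sup_left ?_)
        · rw [Subgroup.lowerCentralSeries_succ]
          exact commutator_mem_commutator hw hf
        · rw [commutatorElement_def, mul_assoc, mul_assoc]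
          refine U.mul_mem hu ?_
          rw [← mul_assoc]
          exact (mem_normalizer_iff.1 (hFU hf) _).1 (U.inv_mem hu)
    obtain ⟨n, hn⟩ := (Subgroup.isNilpotent_iff_lowerCentralSeries F).1 hF
    exact hne (by simpa [hn] using key n)
  obtain ⟨x, hxD, hxU, hx⟩ := exists_eigen hUD (hFodd.of_dvd_nat (card_dvd_of_le hDF)) (hDF.trans hFU)
    (fun x hx y hy => hDFU (commutator_mem_commutator hx (hDF hy))) hAD hAU hA1 hAc hne
  have hxC : x ∈ centralizer (U : Set G) := (hDC hxD).2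
  set V := U ⊔ zpowers x
  have hVP : P V := by
    refine ⟨sup_le hUF (zpowers_le.2 (hDF hxD)), ?_, ?_, ?_⟩
    · have hle : V ≤ centralizer (V : Set G) := by
        refine sup_le ?_ (zpowers_le.2 ?_)
        · rw [le_centralizer_iff]
          refine sup_le (fun u hu => mem_centralizer_iff.2 fun y hy => hUc y hy u hu) (zpowers_le.2 hxC)
        · have h2 : V ≤ centralizer ({x} : Set G) := by
            refine sup_le (fun u hu => mem_centralizer_singleton_iff.2 ?_)
              (zpowers_le.2 (mem_centralizer_singleton_iff.2 rfl))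
            exact (mem_centralizer_iff.1 hxC u hu)
          exact mem_centralizer_iff.2 fun y hy => mem_centralizer_singleton_iff.1 (h2 hy)
      exact fun a ha b hb => mem_centralizer_iff.1 (hle hb) a ha
    · refine CfsgLib.Solvable.le_normalizer_of_conj_mem fun f hf => ?_
      have : V ≤ V.comap (MulAut.conj f).toMonoidHom := by
        refine sup_le (fun u hu => mem_sup_left ((mem_normalizer_iff.1 (hFU hf) u).1 hu)) (zpowers_le.2 ?_)
        show f * x * f⁻¹ ∈ V
        have h1 : ⁅x, f⁆ ∈ U := hDFU (commutator_mem_commutator hxD hf)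
        rw [show f * x * f⁻¹ = ⁅x, f⁆⁻¹ * x by rw [commutatorElement_def]; group]
        exact V.mul_mem (mem_sup_left (U.inv_mem h1)) (mem_sup_right (mem_zpowers x))
      exact fun y hy => this hy
    · refine CfsgLib.Solvable.le_normalizer_of_conj_mem fun a ha => ?_
      have : V ≤ V.comap (MulAut.conj a).toMonoidHom := by
        refine sup_le (fun u hu => mem_sup_left ((mem_normalizer_iff.1 (hAU ha) u).1 hu)) (zpowers_le.2 ?_)
        show a * x * a⁻¹ ∈ V
        rcases hx a ha with h1 | h1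
        · rw [show a * x * a⁻¹ = (a * x * a⁻¹ * x⁻¹) * x by group]
          exact V.mul_mem (mem_sup_left h1) (mem_sup_right (mem_zpowers x))
        · rw [show a * x * a⁻¹ = (a * x * a⁻¹ * x) * x⁻¹ by group]
          exact V.mul_mem (mem_sup_left h1) (mem_sup_right (inv_mem (mem_zpowers x)))
      exact fun y hy => this hy
  exact hxU ((hmax hVP le_sup_left) (mem_sup_right (mem_zpowers x)))

/-- Thompson's dihedral lemma. -/
theorem dihedral_lemma {L A : Subgroup G} (hLs : Group.IsSolvable L) (hLodd : Odd (Nat.card L))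
    (hA : IsElementaryAbelian 2 A) (hAL : A ≤ normalizer (L : Set G))
    (hfaith : A ⊓ centralizer (L : Set G) = ⊥) (d : ℕ) (hAd : Nat.card A = 2 ^ d) :
    ∃ (a x : Fin d → G), (∀ i, a i ∈ A ∧ a i ≠ 1 ∧ x i ∈ L ∧ x i ≠ 1 ∧ a i * x i * (a i)⁻¹ = (x i)⁻¹) ∧
      A ≤ ⨆ i, zpowers (a i) ∧ ∀ i j, i ≠ j → Commute (x i) (x j) ∧ Commute (a i) (x j) := by
  classical
  have hAc : ∀ a ∈ A, ∀ b ∈ A, a * b = b * a := fun a ha b hb =>
    congrArg Subtype.val (hA.1.is_comm.comm ⟨a, ha⟩ ⟨b, hb⟩)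
  have hA1 : ∀ a ∈ A, a * a = 1 := fun a ha => by
    rw [← pow_two]; exact hA.2 a ha
  -- the Fitting subgroup
  set F := (fittingSubgroup L).map L.subtype with hFdef
  have hFL : F ≤ L := map_subtype_le _
  haveI : (fittingSubgroup L).Characteristic := CfsgLib.Cores.fittingSubgroup_characteristic
  have hNF : normalizer (L : Set G) ≤ normalizer (F : Set G) := by
    refine CfsgLib.Solvable.le_normalizer_of_conj_mem fun n hn f hf => ?_
    obtain ⟨y, hy, rfl⟩ := hf
    let e : L ≃* L :=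
      { toFun := fun l => ⟨n * l * n⁻¹, (mem_normalizer_iff.1 hn _).1 l.2⟩
        invFun := fun l => ⟨n⁻¹ * l * n⁻¹⁻¹, (mem_normalizer_iff.1 (inv_mem hn) _).1 l.2⟩
        left_inv := fun l => Subtype.ext (by simp only; group)
        right_inv := fun l => Subtype.ext (by simp only; group)
        map_mul' := fun l l' => Subtype.ext (by simp only [coe_mul]; group) }
    have h1 := Subgroup.characteristic_iff_map_eq.1 (inferInstance : (fittingSubgroup L).Characteristic) e
    exact ⟨e y, h1 ▸ ⟨y, hy, rfl⟩, rfl⟩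
  have hLF : L ≤ normalizer (F : Set G) := le_normalizer.trans hNF
  have hAF : A ≤ normalizer (F : Set G) := hAL.trans hNF
  have hFC : L ⊓ centralizer (F : Set G) ≤ F := by
    intro g hg
    refine ⟨⟨g, hg.1⟩, Solvable.centralizer_fittingSubgroup_le (mem_centralizer_iff.2 fun f hf => ?_), rfl⟩
    exact Subtype.ext (mem_centralizer_iff.1 hg.2 f ⟨f, hf, rfl⟩)
  have hFodd : Odd (Nat.card F) := hLodd.of_dvd_nat (card_dvd_of_le hFL)
  obtain ⟨U, hUF, hUc, hFU, hAU, hCU⟩ := exists_abelian_selfCentralizing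
    (CfsgLib.Cores.isNilpotent_map CfsgLib.Cores.isNilpotent_fittingSubgroup L.subtype) hFodd hAF hA1 hAc
  have hUfaith : ∀ a ∈ A, (∀ u ∈ U, a * u = u * a) → a = 1 := by
    intro a ha hfix
    have h1 : ∀ f ∈ F, a * f = f * a := fun f hf =>
      commute_of_centralizer_le hFodd hUF hFU hCU (hA1 a ha) (hAF ha) hfix hf
    have h2 : a ∈ A ⊓ centralizer (L : Set G) := ⟨ha, mem_centralizer_iff.2 fun g hg =>
      (commute_of_centralizer_le hLodd hFL hLF hFC (hA1 a ha) (hAL ha) h1 hg).symm⟩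
    rwa [hfaith, mem_bot] at h2
  have hUodd : Odd (Nat.card U) := hFodd.of_dvd_nat (card_dvd_of_le hUF)
  -- eigenvectors
  let Λ := {x : G // x ∈ U ∧ x ≠ 1 ∧ ∀ a ∈ A, a * x * a⁻¹ = x ∨ a * x * a⁻¹ = x⁻¹}
  have hsq : ∀ x : Λ, x.1⁻¹ ≠ x.1 := fun x h => x.2.2.1
    (eq_one_of_mul_self_eq_one hUodd x.2.1 (mul_eq_one_iff_eq_inv.2 h.symm))
  let φ : Λ → (A →* ℤˣ) := fun x =>
    MonoidHom.mk' (fun a => if (a : G) * x.1 * (a : G)⁻¹ = x.1 then 1 else -1) (by
      rintro ⟨a, ha⟩ ⟨b, hb⟩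
      have h0 : a * b * x.1 * (a * b)⁻¹ = a * (b * x.1 * b⁻¹) * a⁻¹ := by group
      have hinv : ∀ c : G, c * x.1⁻¹ * c⁻¹ = (c * x.1 * c⁻¹)⁻¹ := fun c => by group
      simp only [MulMemClass.mk_mul_mk, h0]
      rcases x.2.2.2 a ha with h1 | h1 <;> rcases x.2.2.2 b hb with h2 | h2 <;>
        simp [h1, h2, hinv, hsq x, -mul_inv_rev, -conj_inv])
  have hsep : ∀ a : A, (∀ x, φ x a = 1) → a = 1 := by
    intro a hall
    by_contra hne
    have hne' : (a : G) ≠ 1 := fun h => hne (Subtype.ext h)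
    let I : Subgroup G :=
      { carrier := {u | u ∈ U ∧ (a : G) * u * (a : G)⁻¹ = u⁻¹}
        one_mem' := ⟨U.one_mem, by group⟩
        mul_mem' := fun {u v} hu hv => ⟨U.mul_mem hu.1 hv.1, by
          rw [mul_inv_rev, ← hUc u⁻¹ (U.inv_mem hu.1) v⁻¹ (U.inv_mem hv.1), ← hu.2, ← hv.2]; group⟩
        inv_mem' := fun {u} hu => ⟨U.inv_mem hu.1, by rw [← conj_inv, hu.2]⟩ }
    have hIU : I ≤ U := fun u hu => hu.1
    have hAI : A ≤ normalizer (I : Set G) := by
      refine CfsgLib.Solvable.le_normalizer_of_conj_mem fun b hb u hu => ⟨(mem_normalizer_iff.1 (hAU hb) u).1 hu.1, ?_⟩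
      calc (a : G) * (b * u * b⁻¹) * (a : G)⁻¹ = ((a : G) * b) * u * ((a : G) * b)⁻¹ := by group
        _ = (b * (a : G)) * u * (b * (a : G))⁻¹ := by rw [hAc _ a.2 b hb]
        _ = b * ((a : G) * u * (a : G)⁻¹) * b⁻¹ := by group
        _ = _ := by rw [hu.2]; group
    have hI : ¬ I ≤ ⊥ := by
      intro hbot
      apply hne'
      refine hUfaith a a.2 fun u hu => ?_
      set w := u⁻¹ * ((a : G) * u * (a : G)⁻¹) with hw
      have hau : (a : G) * u * (a : G)⁻¹ ∈ U := (mem_normalizer_iff.1 (hAU a.2) u).1 hu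
      have hwI : w ∈ I := ⟨U.mul_mem (U.inv_mem hu) hau, by
        have h := hA1 a a.2
        rw [hw, show (a : G) * (u⁻¹ * ((a : G) * u * (a : G)⁻¹)) * (a : G)⁻¹
          = (a : G) * u⁻¹ * (a : G)⁻¹ * (((a : G) * a) * u * ((a : G) * a)⁻¹) by group, h]
        group⟩
      have hw1 : w = 1 := mem_bot.1 (hbot hwI)
      rw [hw, inv_mul_eq_one] at hw1
      exact mul_inv_eq_iff_eq_mul.1 hw1.symm
    obtain ⟨x, hxI, hx1, hx⟩ := exists_eigen (U := ⊥) bot_le (hUodd.of_dvd_nat (card_dvd_of_le hIU))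
      (le_top.trans (normalizer_eq_top_iff.2 inferInstance).ge) (fun u hu v hv => by
        rw [mem_bot, commutatorElement_eq_one_iff_mul_comm]
        exact hUc u (hIU hu) v (hIU hv))
      hAI (le_top.trans (normalizer_eq_top_iff.2 inferInstance).ge) hA1 hAc hI
    rw [mem_bot] at hx1
    let xΛ : Λ := ⟨x, hIU hxI, hx1, fun b hb => (hx b hb).imp
      (fun h => by rw [mem_bot] at h; exact mul_inv_eq_one.1 h)
      fun h => by rw [mem_bot] at h; exact eq_inv_of_mul_eq_one_left h⟩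
    have h3 := hall xΛ
    simp [φ, xΛ, hxI.2] at h3
    exact hsq xΛ h3
  haveI : Finite Λ := Subtype.finite
  haveI : Fintype Λ := Fintype.ofFinite _
  obtain ⟨T, -, hT, hTmin⟩ := exists_minimal_le_of_wellFoundedLT
    (fun T : Finset Λ => ∀ a : A, (∀ x ∈ T, φ x a = 1) → a = 1) Finset.univ
    (fun a h => hsep a fun x => h x (Finset.mem_univ x))
  have hdual : ∀ y ∈ T, ∃ a : A, φ y a = -1 ∧ ∀ x ∈ T, x ≠ y → φ x a = 1 := by
    intro y hy
    by_contra hcon
    push Not at hcon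
    have hle : T ⊆ T.erase y := hTmin (y := T.erase y) (fun a ha => by
      refine hT a fun x hx => ?_
      rcases eq_or_ne x y with rfl | hxy
      · refine (Int.units_eq_one_or _).resolve_right fun h => ?_
        obtain ⟨z, hz, hzne, hz1⟩ := hcon a h
        exact hz1 (ha z (Finset.mem_erase.2 ⟨hzne, hz⟩))
      · exact ha x (Finset.mem_erase.2 ⟨hxy, hx⟩)) (Finset.erase_subset _ _)
    exact Finset.notMem_erase y T (hle hy)
  choose b hb1 hb2 using hdual
  let Φ : A →* (T → ℤˣ) := MonoidHom.mk' (fun a x => φ x.1 a) (fun a a' => funext fun x => map_mul _ _ _)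
  have hΦinj : Function.Injective Φ := (injective_iff_map_eq_one Φ).2 fun a h =>
    hT a fun x hx => congrFun h ⟨x, hx⟩
  have hΦb : ∀ y : T, Φ (b y.1 y.2) = Pi.mulSingle y (-1) := fun y => funext fun x => by
    rcases eq_or_ne x y with rfl | hxy
    · rw [Pi.mulSingle_eq_same]; exact hb1 _ _
    · rw [Pi.mulSingle_eq_of_ne hxy]; exact hb2 _ _ _ x.2 fun h => hxy (Subtype.ext h)
  set H : Subgroup A := ⨆ y : T, zpowers (b y.1 y.2)
  have hH : ∀ f : T → ℤˣ, f ∈ H.map Φ := fun f => by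
    rw [← Finset.univ_prod_mulSingle f]
    refine Subgroup.prod_mem _ fun y _ => ?_
    rcases Int.units_eq_one_or (f y) with h | h <;> rw [h]
    · rw [Pi.mulSingle_one]; exact one_mem _
    · rw [← hΦb y]; exact mem_map_of_mem _ (le_iSup (fun y : T => zpowers (b y.1 y.2)) y (mem_zpowers _))
  have hHtop : H = ⊤ := eq_top_iff.2 fun a _ => by
    obtain ⟨c, hc, hca⟩ := hH (Φ a)
    exact hΦinj hca ▸ hc
  have hcard : Nat.card A = 2 ^ Nat.card T := by
    rw [Nat.card_congr (Equiv.ofBijective Φ ⟨hΦinj, fun f => by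
      obtain ⟨c, -, hc⟩ := hH f; exact ⟨c, hc⟩⟩), Nat.card_fun, Nat.card_eq_fintype_card (α := ℤˣ)]
    rfl
  have hd : Nat.card T = d := Nat.pow_right_injective le_rfl (hcard.symm.trans hAd)
  let e : Fin d ≃ T := (Fintype.equivFinOfCardEq ((Nat.card_eq_fintype_card).symm.trans hd)).symm
  have hval : ∀ (y : Λ) (c : A), φ y c = -1 → (c : G) * y.1 * (c : G)⁻¹ = y.1⁻¹ := by
    intro y c h
    refine (y.2.2.2 c c.2).resolve_left fun h1 => ?_
    simp [φ, h1] at h
  have hfix : ∀ (y : Λ) (c : A), φ y c = 1 → Commute (c : G) y.1 := by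
    intro y c h
    refine mul_inv_eq_iff_eq_mul.1 ((y.2.2.2 c c.2).resolve_right fun h1 => ?_)
    simp [φ, h1, hsq y] at h
  refine ⟨fun i => (b (e i).1 (e i).2 : G), fun i => (e i).1.1, fun i => ⟨SetLike.coe_mem _, ?_,
    hFL (hUF (e i).1.2.1), (e i).1.2.2.1, hval _ _ (hb1 _ _)⟩, ?_, fun i j hij =>
    ⟨hUc _ (e i).1.2.1 _ (e j).1.2.1, hfix _ _ (hb2 _ _ _ (e j).2 fun h => hij ?_)⟩⟩
  · intro h
    have h1 := hval _ _ (hb1 (e i).1 (e i).2)
    simp only at h
    rw [h] at h1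
    exact hsq (e i).1 (by simpa using h1.symm)
  · intro a ha
    have h1 : (⟨a, ha⟩ : A) ∈ H := hHtop ▸ mem_top _
    have h2 := mem_map_of_mem A.subtype h1
    rw [Subgroup.map_iSup] at h2
    refine (iSup_le fun y => ?_ : (⨆ y : T, (zpowers (b y.1 y.2)).map A.subtype) ≤ _) h2
    rw [MonoidHom.map_zpowers]
    refine le_trans (le_of_eq ?_) (le_iSup (fun i => zpowers ((b (e i).1 (e i).2 : A) : G)) (e.symm y))
    rw [Equiv.apply_symm_apply]
    rfl
  · exact (e.injective (Subtype.ext h)).symm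

end CfsgLib.Components
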