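import Cfsg.Agent.Lib.PGroup.BaerTrick
import Cfsg.Agent.Lib.Transfer.Critical

/-!
A `p'`-group of automorphisms of a `p`-group (`p` odd), normalised by a `p`-group `𝔹`, is trivial if it
fixes every element of order `p` fixed by `𝔹`.
-/

namespace CfsgLib.Components

open Subgroup
open scoped commutatorElement

/-- Restriction of automorphisms to a characteristic subgroup. -/
def restrictCharHom {P : Type*} [Group P] (H : Subgroup P) [hH : H.Characteristic] : MulAut P →* MulAut H :=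
  MonoidHom.mk'
    (fun φ =>
      { toFun := fun x => ⟨φ x.1, Subgroup.characteristic_iff_map_le.1 hH φ ⟨x.1, x.2, rfl⟩⟩
        invFun := fun x => ⟨φ.symm x.1, Subgroup.characteristic_iff_map_le.1 hH φ.symm ⟨x.1, x.2, rfl⟩⟩
        left_inv := fun x => Subtype.ext (φ.symm_apply_apply _)
        right_inv := fun x => Subtype.ext (φ.apply_symm_apply _)
        map_mul' := fun x y => Subtype.ext (map_mul φ _ _) })
    (fun φ ψ => MulEquiv.ext fun x => rfl)

@[simp] theorem restrictCharHom_val {P : Type*} [Group P] (H : Subgroup P) [H.Characteristic] (φ : MulAut P)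
    (x : H) : (restrictCharHom H φ x : P) = φ x := rfl

theorem eq_one_of_fixed_omega {P : Type*} [Group P] [Finite P] {p : ℕ} [hp : Fact p.Prime] (hp2 : p ≠ 2)
    (hP : IsPGroup p P) (𝔸 𝔹 : Subgroup (MulAut P)) (hA : (Nat.card 𝔸).Coprime p) (hB : IsPGroup p 𝔹)
    (hnorm : ∀ β ∈ 𝔹, ∀ α ∈ 𝔸, β * α * β⁻¹ ∈ 𝔸)
    (hfix : ∀ v : P, v ^ p = 1 → (∀ β ∈ 𝔹, β v = v) → ∀ α ∈ 𝔸, α v = v) : ∀ α ∈ 𝔸, α = 1 := by
  obtain ⟨H, hHc, hpow, hcomm, hC⟩ := CfsgLib.Transfer.exists_critical hP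
  haveI := hHc
  haveI : H.Normal := inferInstance
  have hcenH : ∀ u v : H, ⁅u, v⁆ ∈ center H := fun u v => by
    rw [mem_center_iff]
    intro w
    refine Subtype.ext ?_
    exact mem_centralizer_iff.1 (hcomm (commutator_mem_commutator u.2 (mem_top (v : P)))).2 w w.2
  have hpc : ∀ v : H, v ^ p ∈ center H := fun v => by
    rw [mem_center_iff]
    intro w
    exact Subtype.ext (mem_centralizer_iff.1 (hpow v v.2).2 w w.2)
  have hcp : ∀ u v : H, ⁅u, v⁆ ^ p = 1 := fun u v => by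
    rw [← PGroup.comm_pow_left (hcenH u v), commutatorElement_eq_one_iff_mul_comm]
    exact (mem_center_iff.1 (hpc u) v).symm
  have hmul : ∀ u v : H, (u * v) ^ p = u ^ p * v ^ p := fun u v => by
    rw [PGroup.mul_pow_of_comm_mem_center (hcenH _ _)]
    obtain ⟨j, hj⟩ := (hp.out.dvd_choose_self (by norm_num : (2 : ℕ) ≠ 0)
      (lt_of_le_of_ne hp.out.two_le (Ne.symm hp2)))
    rw [hj, pow_mul, hcp, one_pow, mul_one]
  let U : Subgroup H :=
    { carrier := {x | x ^ p = 1}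
      one_mem' := one_pow p
      mul_mem' := fun {u v} (hu : u ^ p = 1) (hv : v ^ p = 1) => by
        show (u * v) ^ p = 1
        rw [hmul, hu, hv, mul_one]
      inv_mem' := fun {u} (hu : u ^ p = 1) => by
        show u⁻¹ ^ p = 1
        rw [inv_pow, hu, inv_one] }
  haveI : U.Characteristic := by
    rw [Subgroup.characteristic_iff_map_le]
    rintro φ _ ⟨x, hx, rfl⟩
    show φ x ^ p = 1
    rw [← map_pow, show x ^ p = 1 from hx, map_one]
  let ρ : MulAut P →* MulAut U := (restrictCharHom U).comp (restrictCharHom H)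
  have hcenU : ∀ u v : U, ⁅u, v⁆ ∈ center U := fun u v => by
    rw [mem_center_iff]
    intro w
    exact Subtype.ext (mem_center_iff.1 (hcenH u v) w)
  have hcpU : ∀ u v : U, ⁅u, v⁆ ^ p = 1 := fun u v => Subtype.ext (hcp u v)
  have h1 := PGroup.eq_one_of_fixed_le_classTwo hp2 ((hP.to_subgroup H).to_subgroup U) hcenU hcpU
    (𝔸.map ρ) (𝔹.map ρ) (hA.coprime_dvd_left (Subgroup.card_map_dvd _ _)) (hB.map _)
    (by
      rintro _ ⟨β, hβ, rfl⟩ _ ⟨γ, hγ, rfl⟩
      exact ⟨β * γ * β⁻¹, hnorm β hβ γ hγ, by rw [map_mul, map_mul, map_inv]⟩)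
    (by
      intro v hv
      rintro _ ⟨γ, hγ, rfl⟩
      refine Subtype.ext (Subtype.ext (hfix (v : H) ?_ (fun β hβ => ?_) γ hγ))
      · exact congrArg Subtype.val (v.2 : (v : H) ^ p = 1)
      · exact congrArg (fun w : U => ((w : H) : P)) (hv _ ⟨β, hβ, rfl⟩))
  intro α hα
  have hco : ∀ {Q : Type _} [Group Q] (f : MulAut P →* Q), (orderOf (f α)).Coprime p := fun f =>
    hA.coprime_dvd_left ((orderOf_map_dvd f α).trans (Subgroup.orderOf_dvd_natCard 𝔸 hα))
  have h2 : restrictCharHom H α = 1 := CfsgLib.Transfer.aut_eq_one_of_fix_omega hp2 (hP.to_subgroup H) _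
    (hco (restrictCharHom H)) fun x hx => congrArg Subtype.val
      (DFunLike.congr_fun (h1 _ ⟨α, hα, rfl⟩) (⟨x, hx⟩ : U))
  refine CfsgLib.Transfer.aut_eq_one_of_fix_normal hP H hC α (hco (MonoidHom.id _)) fun x hx => ?_
  exact congrArg Subtype.val (DFunLike.congr_fun h2 (⟨x, hx⟩ : H))

/-- Group form. -/
theorem commute_of_fixed_omega {G : Type*} [Group G] [Finite G] {p : ℕ} [hp : Fact p.Prime] (hp2 : p ≠ 2)
    {P Q A : Subgroup G} (hP : IsPGroup p P) (hQ : (Nat.card Q).Coprime p) (hA : IsPGroup p A)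
    (hQP : Q ≤ normalizer (P : Set G)) (hAP : A ≤ normalizer (P : Set G)) (hAQ : A ≤ normalizer (Q : Set G))
    (hfix : ∀ v ∈ P, v ^ p = 1 → v ∈ centralizer (A : Set G) → v ∈ centralizer (Q : Set G)) :
    Q ≤ centralizer (P : Set G) := by
  let ν := Subgroup.normalizerMonoidHom P
  let Q' := Q.subgroupOf (normalizer (P : Set G))
  let A' := A.subgroupOf (normalizer (P : Set G))
  have h := eq_one_of_fixed_omega hp2 hP (Q'.map ν) (A'.map ν)
    ((hQ.coprime_dvd_left (dvd_of_eq (Nat.card_congr (subgroupOfEquivOfLe hQP).toEquiv))).coprime_dvd_left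
      (Subgroup.card_map_dvd _ _))
    ((hA.of_equiv (subgroupOfEquivOfLe hAP).symm).map _)
    (by
      rintro _ ⟨a, ha, rfl⟩ _ ⟨x, hx, rfl⟩
      exact ⟨a * x * a⁻¹, (mem_normalizer_iff.1 (hAQ ha) _).1 hx, by rw [map_mul, map_mul, map_inv]⟩)
    (by
      rintro v hv hfixA _ ⟨x, hx, rfl⟩
      refine Subtype.ext ?_
      show (x : G) * v * (x : G)⁻¹ = v
      refine mul_inv_eq_iff_eq_mul.2 (mem_centralizer_iff.1 (hfix v v.2 (congrArg Subtype.val hv) ?_) x hx)
      rw [mem_centralizer_iff]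
      intro a ha
      have h1 : a * v * a⁻¹ = v := congrArg Subtype.val (hfixA _ ⟨⟨a, hAP ha⟩, ha, rfl⟩)
      exact mul_inv_eq_iff_eq_mul.1 h1)
  intro x hx
  rw [mem_centralizer_iff]
  intro v hv
  have h1 := DFunLike.congr_fun (h _ ⟨⟨x, hQP hx⟩, hx, rfl⟩) (⟨v, hv⟩ : P)
  have h2 : x * v * x⁻¹ = v := congrArg Subtype.val h1
  exact (mul_inv_eq_iff_eq_mul.1 h2).symm

end CfsgLib.Components
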