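import Cfsg.Prelude.Def_Local
import Cfsg.Agent.Lib.Cores.Components
import Cfsg.Agent.Lib.Classical.SLBasic
import Mathlib.LinearAlgebra.Matrix.GeneralLinearGroup.Defs

/-!
The hyperplane block `SL_{n-1}` inside `SL_n`: quasisimplicity, embedding, centralizers.
-/

namespace CfsgLib.Components.SLBlock

open Matrix Cfsg
open scoped commutatorElement

variable {F : Type*} [Field F] [Fintype F] {κ : Type*} [Fintype κ] [DecidableEq κ]

theorem exists_sq_ne_one (hF : 4 ≤ Fintype.card F) : ∃ x : F, x ≠ 0 ∧ x ^ 2 ≠ 1 := by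
  classical
  by_contra h
  push Not at h
  have hsub : (Finset.univ : Finset F) ⊆ {0, 1, -1} := fun x _ => by
    simp only [Finset.mem_insert, Finset.mem_singleton]
    rcases eq_or_ne x 0 with hx | hx
    · exact Or.inl hx
    · exact Or.inr (sq_eq_one_iff.1 (h x hx))
  have h1 := (Finset.card_le_card hsub).trans Finset.card_le_three
  rw [Finset.card_univ] at h1
  omega

theorem isQuasisimple_SL (h : 3 ≤ Fintype.card κ ∨ (Fintype.card κ = 2 ∧ 4 ≤ Fintype.card F)) :
    IsQuasisimple (SpecialLinearGroup κ F) := by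
  rcases h with h3 | ⟨h2, h4⟩
  · exact ⟨⟨CfsgLib.Classical.commutator_SL_eq_top h3⟩, CfsgLib.Classical.isSimpleGroup_PSL h3⟩
  · let e := Fintype.equivFinOfCardEq h2
    let E : SpecialLinearGroup (Fin 2) F ≃* SpecialLinearGroup κ F :=
      { toFun := fun M => ⟨M.1.submatrix e e, by rw [det_submatrix_equiv_self]; exact M.2⟩
        invFun := fun M => ⟨M.1.submatrix e.symm e.symm, by rw [det_submatrix_equiv_self]; exact M.2⟩
        left_inv := fun M => Subtype.ext (by ext i j; simp)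
        right_inv := fun M => Subtype.ext (by ext i j; simp)
        map_mul' := fun M N => Subtype.ext (Matrix.submatrix_mul_equiv _ _ _ _ _).symm }
    refine Cores.isQuasisimple_of_equiv E ⟨⟨?_⟩,
      ProjectiveSpecialLinearGroup.rank_two_simple (by rw [Nat.card_eq_fintype_card]; exact h4)⟩
    obtain ⟨x, hx, hx2⟩ := exists_sq_ne_one h4
    refine CfsgLib.Classical.SL_le_of_transvections _ fun i j hij c => ?_
    rw [commutator_eq_closure]
    exact Subgroup.subset_closure (CfsgLib.Classical.transvection_mem_commutatorSet_of_sq hij hx hx2 c)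

variable {ι : Type*} [Fintype ι] [DecidableEq ι] (i₀ : ι)

omit [Fintype F] [Fintype ι] [DecidableEq ι] in
/-- No off-diagonal entries in row and column `i₀`. -/
def Off (M : Matrix ι ι F) : Prop := ∀ j, j ≠ i₀ → M i₀ j = 0 ∧ M j i₀ = 0

/-- Block matrix with a given block away from `i₀` and `1` at `i₀`. -/
def bdMat (M : Matrix {i // i ≠ i₀} {i // i ≠ i₀} F) : Matrix ι ι F :=
  (Matrix.fromBlocks M 0 0 (1 : Matrix {i // ¬ i ≠ i₀} {i // ¬ i ≠ i₀} F)).submatrix
    (Equiv.sumCompl (fun i => i ≠ i₀)).symm (Equiv.sumCompl (fun i => i ≠ i₀)).symm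

variable {i₀}

omit [Fintype F] in
theorem bdMat_mul (M N : Matrix {i // i ≠ i₀} {i // i ≠ i₀} F) :
    bdMat i₀ (M * N) = bdMat i₀ M * bdMat i₀ N := by
  rw [bdMat, bdMat, bdMat, Matrix.submatrix_mul_equiv, Matrix.fromBlocks_multiply]
  simp

omit [Fintype F] in
theorem det_bdMat (M : Matrix {i // i ≠ i₀} {i // i ≠ i₀} F) : (bdMat i₀ M).det = M.det := by
  rw [bdMat, det_submatrix_equiv_self, det_fromBlocks_zero₂₁, det_one, mul_one]

omit [Fintype F] [Fintype ι] in
theorem bdMat_apply (M : Matrix {i // i ≠ i₀} {i // i ≠ i₀} F) {x y : ι} (hx : x ≠ i₀) (hy : y ≠ i₀) :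
    bdMat i₀ M x y = M ⟨x, hx⟩ ⟨y, hy⟩ := by
  simp [bdMat, Equiv.sumCompl_symm_apply_of_pos, hx, hy]

omit [Fintype F] [Fintype ι] in
theorem bdMat_apply_corner (M : Matrix {i // i ≠ i₀} {i // i ≠ i₀} F) : bdMat i₀ M i₀ i₀ = 1 := by
  simp [bdMat, Equiv.sumCompl_symm_apply_of_neg]

omit [Fintype F] [Fintype ι] in
theorem off_bdMat (M : Matrix {i // i ≠ i₀} {i // i ≠ i₀} F) : Off i₀ (bdMat i₀ M) := fun j hj => by
  constructor <;> simp [bdMat, Equiv.sumCompl_symm_apply_of_neg, Equiv.sumCompl_symm_apply_of_pos, hj]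

omit [Fintype F] in
theorem Off.mul_corner {A : Matrix ι ι F} (hA : Off i₀ A) (B : Matrix ι ι F) :
    (A * B) i₀ i₀ = A i₀ i₀ * B i₀ i₀ := by
  rw [Matrix.mul_apply, Finset.sum_eq_single i₀]
  · intro j _ hj
    rw [(hA j hj).1, zero_mul]
  · simp

omit [Fintype F] in
theorem Off.mul {A B : Matrix ι ι F} (hA : Off i₀ A) (hB : Off i₀ B) : Off i₀ (A * B) := fun j hj => by
  constructor
  · rw [Matrix.mul_apply]
    refine Finset.sum_eq_zero fun k _ => ?_
    rcases eq_or_ne k i₀ with rfl | hk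
    · rw [(hB j hj).1, mul_zero]
    · rw [(hA k hk).1, zero_mul]
  · rw [Matrix.mul_apply]
    refine Finset.sum_eq_zero fun k _ => ?_
    rcases eq_or_ne k i₀ with rfl | hk
    · rw [(hA j hj).2, zero_mul]
    · rw [(hB k hk).2, mul_zero]

omit [Fintype F] in
/-- Off-diagonal vanishing is centralizing a diagonal involution with a single different eigenvalue. -/
theorem off_iff_commute {D : ι → F} (hD : ∀ j, j ≠ i₀ → D j ≠ D i₀) (hconst : ∀ j k, j ≠ i₀ → k ≠ i₀ → D j = D k)
    {M : Matrix ι ι F} : Off i₀ M ↔ diagonal D * M = M * diagonal D := by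
  constructor
  · intro h
    ext x y
    rw [diagonal_mul, mul_diagonal, mul_comm (M x y)]
    rcases eq_or_ne x i₀ with rfl | hx <;> rcases eq_or_ne y x with rfl | hyx
    · rfl
    · rw [(h y hyx).1, mul_zero, mul_zero]
    · rfl
    · rcases eq_or_ne y i₀ with rfl | hy
      · rw [(h x hx).2, mul_zero, mul_zero]
      · rw [hconst x y hx hy]
  · intro h j hj
    have key : ∀ x y, (D x - D y) * M x y = 0 := fun x y => by
      have := congrFun (congrFun h x) y
      rw [diagonal_mul, mul_diagonal] at this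
      linear_combination this
    exact ⟨(mul_eq_zero.1 (key i₀ j)).resolve_left (sub_ne_zero.2 (hD j hj).symm),
      (mul_eq_zero.1 (key j i₀)).resolve_left (sub_ne_zero.2 (hD j hj))⟩

variable (i₀)

/-- The embedding of the hyperplane block. -/
def bd : SpecialLinearGroup {i // i ≠ i₀} F →* SpecialLinearGroup ι F :=
  MonoidHom.mk' (fun M => ⟨bdMat i₀ M.1, by rw [det_bdMat]; exact M.2⟩)
    (fun M N => Subtype.ext (bdMat_mul M.1 N.1))

variable {i₀}

omit [Fintype F] in
theorem bd_injective : Function.Injective (bd i₀ : SpecialLinearGroup {i // i ≠ i₀} F →* _) := fun M N h =>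
  Subtype.ext (Matrix.ext fun x y => by
    have := congrArg (fun g : SpecialLinearGroup ι F => g.1 x.1 y.1) h
    change bdMat i₀ M.1 x.1 y.1 = bdMat i₀ N.1 x.1 y.1 at this
    rwa [bdMat_apply _ x.2 y.2, bdMat_apply _ x.2 y.2] at this)

omit [Fintype F] in
theorem mem_range_bd {g : SpecialLinearGroup ι F} :
    g ∈ (bd i₀).range ↔ Off i₀ g.1 ∧ g.1 i₀ i₀ = 1 := by
  constructor
  · rintro ⟨M, rfl⟩
    exact ⟨off_bdMat M.1, bdMat_apply_corner M.1⟩
  · rintro ⟨h1, h2⟩
    have heq : bdMat i₀ (g.1.submatrix Subtype.val Subtype.val) = g.1 := by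
      ext x y
      rcases eq_or_ne x i₀ with rfl | hx <;> rcases eq_or_ne y x with rfl | hyx
      · rw [bdMat_apply_corner, h2]
      · rw [(off_bdMat _ y hyx).1, (h1 y hyx).1]
      · rw [bdMat_apply _ hx hx]; rfl
      · rcases eq_or_ne y i₀ with rfl | hy
        · rw [(off_bdMat _ x hx).2, (h1 x hx).2]
        · rw [bdMat_apply _ hx hy]; rfl
    refine ⟨⟨g.1.submatrix Subtype.val Subtype.val, ?_⟩, Subtype.ext heq⟩
    rw [← det_bdMat, heq]
    exact g.2

theorem isQuasisimple_range_bd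
    (h : 4 ≤ Fintype.card ι ∨ (Fintype.card ι = 3 ∧ 4 ≤ Fintype.card F)) :
    IsQuasisimple (bd i₀ : SpecialLinearGroup {i // i ≠ i₀} F →* _).range := by
  have hc : Fintype.card {i // i ≠ i₀} = Fintype.card ι - 1 := by
    rw [Fintype.card_subtype_compl, Fintype.card_subtype_eq]
  refine Cores.isQuasisimple_of_equiv (MonoidHom.ofInjective bd_injective) (isQuasisimple_SL ?_)
  rcases h with h4 | ⟨h3, hF⟩
  · left; omega
  · right; exact ⟨by omega, hF⟩

end CfsgLib.Components.SLBlock
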