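import Cfsg.Agent.Lib.Components.SLBlock
import Cfsg.Agent.Lib.Cores.Local
import Cfsg.Agent.Lib.Solvable.CoprimeAction

/-!
The hyperplane block of `SL_n`, `n` odd, as a standard subgroup.
-/

namespace CfsgLib.Components.SLBlock

open Matrix Cfsg
open scoped commutatorElement

variable {F : Type*} [Field F] [Fintype F] {ι : Type*} [Fintype ι] [DecidableEq ι] {i₀ : ι}

theorem layer_standard (hι : 4 ≤ Fintype.card ι) (hodd : Odd (Fintype.card ι)) (h2 : (2 : F) ≠ 0)
    (t : SpecialLinearGroup ι F)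
    (ht : (t : Matrix ι ι F) = diagonal (fun i => if i = i₀ then (1 : F) else -1)) :
    IsStandardSubgroup ((layer ↥(Subgroup.centralizer ({t} : Set (SpecialLinearGroup ι F)))).map
      (Subgroup.centralizer ({t} : Set (SpecialLinearGroup ι F))).subtype) := by
  have hne : (-1 : F) ≠ 1 := fun h => h2 (by linear_combination -h)
  set C := Subgroup.centralizer ({t} : Set (SpecialLinearGroup ι F)) with hCdef
  have hoff : ∀ g, g ∈ C ↔ Off i₀ (g : Matrix ι ι F) := fun g => by
    rw [hCdef, Subgroup.mem_centralizer_singleton_iff, off_iff_commute (D := fun i => if i = i₀ then (1 : F) else -1)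
      (fun j hj => by simpa [hj] using hne) (fun j k hj hk => by simp [hj, hk]), eq_comm (a := g * t), ← ht]
    exact ⟨fun h => congrArg Subtype.val h, fun h => Subtype.ext h⟩
  set K := (bd i₀ : SpecialLinearGroup {i // i ≠ i₀} F →* _).range with hK
  have hKC : K ≤ C := fun g hg => (hoff g).2 (mem_range_bd.1 hg).1
  have hqs : IsQuasisimple K := isQuasisimple_range_bd (Or.inl hι)
  have hcorner : ∀ c ∈ C, ∀ d ∈ C, ((c * d : SpecialLinearGroup ι F) : Matrix ι ι F) i₀ i₀ =
      (c : Matrix ι ι F) i₀ i₀ * (d : Matrix ι ι F) i₀ i₀ := fun c hc d _ => by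
    show (c.1 * d.1) i₀ i₀ = _
    exact ((hoff c).1 hc).mul_corner _
  have hinvc : ∀ c ∈ C, (c : Matrix ι ι F) i₀ i₀ * ((c⁻¹ : SpecialLinearGroup ι F) : Matrix ι ι F) i₀ i₀ = 1 := by
    intro c hc
    rw [← hcorner c hc _ (inv_mem hc), mul_inv_cancel]
    exact Matrix.one_apply_eq i₀
  have hCK : C ≤ Subgroup.normalizer (K : Set (SpecialLinearGroup ι F)) :=
    CfsgLib.Solvable.le_normalizer_of_conj_mem fun c hc x hx => by
      rw [hK, mem_range_bd]
      refine ⟨(hoff _).1 (mul_mem (mul_mem hc (hKC hx)) (inv_mem hc)), ?_⟩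
      rw [hcorner _ (mul_mem hc (hKC hx)) _ (inv_mem hc), hcorner _ hc _ (hKC hx), (mem_range_bd.1 hx).2, mul_one,
        hinvc c hc]
  haveI hnormal : (K.subgroupOf C).Normal := (Subgroup.normal_subgroupOf_iff_le_normalizer hKC).2 hCK
  -- the layer
  have hlayer : (layer C).map C.subtype = K := by
    refine le_antisymm ?_ fun g hg => ?_
    · have hperf := CfsgLib.Cores.isPerfect_layer (G := C)
      intro g hg
      obtain ⟨y, hy, rfl⟩ := hg
      have h1 : ⁅layer C, layer C⁆ ≤ K.subgroupOf C := Subgroup.commutator_le.2 fun a _ b _ => by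
        rw [Subgroup.mem_subgroupOf, hK, mem_range_bd]
        refine ⟨(hoff _).1 ⁅a, b⁆.2, ?_⟩
        rw [show ((⁅a, b⁆ : C) : SpecialLinearGroup ι F) = (a : SpecialLinearGroup ι F) * b * (a : SpecialLinearGroup ι F)⁻¹ * (b : SpecialLinearGroup ι F)⁻¹ from rfl,
          hcorner _ (mul_mem (mul_mem a.2 b.2) (inv_mem a.2)) _ (inv_mem b.2),
          hcorner _ (mul_mem a.2 b.2) _ (inv_mem a.2), hcorner _ a.2 _ b.2]
        calc _ = ((a : SpecialLinearGroup ι F).1 i₀ i₀ * ((a : SpecialLinearGroup ι F)⁻¹).1 i₀ i₀) *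
              ((b : SpecialLinearGroup ι F).1 i₀ i₀ * ((b : SpecialLinearGroup ι F)⁻¹).1 i₀ i₀) := by ring
          _ = 1 := by rw [hinvc _ a.2, hinvc _ b.2, one_mul]
      have h2' : ⁅layer C, layer C⁆ = layer C := Subgroup.isPerfect_iff.1 hperf
      exact h1 (h2'.ge hy)
    · have hcomp : IsComponent (K.subgroupOf C) := ⟨Subgroup.Normal.isSubnormal hnormal,
        CfsgLib.Cores.isQuasisimple_of_equiv (Subgroup.subgroupOfEquivOfLe hKC).symm hqs⟩
      exact ⟨⟨g, hKC hg⟩, (le_sSup hcomp : K.subgroupOf C ≤ layer C) hg, rfl⟩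
  rw [hlayer]
  -- the centralizer
  set Z := Subgroup.centralizer (K : Set (SpecialLinearGroup ι F)) with hZdef
  have hZ : ∀ g, g ∈ Z → Off i₀ (g : Matrix ι ι F) ∧ ∀ a b, a ≠ i₀ → b ≠ i₀ →
      ((a ≠ b → (g : Matrix ι ι F) a b = 0) ∧ (g : Matrix ι ι F) a a = (g : Matrix ι ι F) b b) := by
    intro g hg
    have key : ∀ a b, a ≠ i₀ → b ≠ i₀ → a ≠ b → ∀ x y, (g : Matrix ι ι F) x a * (if b = y then 1 else 0) =
        (if a = x then 1 else 0) * (g : Matrix ι ι F) b y := by
      intro a b ha hb hab x y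
      have hT : SpecialLinearGroup.transvection hab (1 : F) ∈ K := by
        rw [hK, mem_range_bd]
        refine ⟨fun j hj => ?_, ?_⟩
        · constructor <;>
            simp [SpecialLinearGroup.transvection, Matrix.transvection, Matrix.one_apply, ha, hb,
              hj, hj.symm, Matrix.single_apply]
        · simp [SpecialLinearGroup.transvection, Matrix.transvection, Matrix.one_apply, ha, Matrix.single_apply]
      have h := congrArg Subtype.val (Subgroup.mem_centralizer_iff.1 hg _ hT)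
      change Matrix.transvection a b (1 : F) * g.1 = g.1 * Matrix.transvection a b (1 : F) at h
      rw [Matrix.transvection, add_mul, mul_add, one_mul, mul_one, add_right_inj] at h
      have h' := (congrFun (congrFun h x) y).symm
      rw [Matrix.mul_apply, Finset.sum_eq_single a (fun k _ hk => by simp [Matrix.single_apply, Ne.symm hk])
        (by simp), Matrix.mul_apply, Finset.sum_eq_single b (fun k _ hk => by simp [Matrix.single_apply, Ne.symm hk])
        (by simp)] at h'
      simpa [Matrix.single_apply] using h'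
    have hex : ∀ a, a ≠ i₀ → ∃ b, b ≠ i₀ ∧ a ≠ b := fun a _ => by
      have : 1 ≤ (Finset.univ \ {i₀, a}).card := by
        have h3 := Finset.le_card_sdiff ({i₀, a} : Finset ι) Finset.univ
        have h4 := Finset.card_le_two (a := i₀) (b := a)
        rw [Finset.card_univ] at h3
        omega
      obtain ⟨b, hb⟩ := Finset.card_pos.1 this
      simp at hb
      exact ⟨b, hb.1, Ne.symm hb.2⟩
    refine ⟨fun j hj => ?_, fun a b ha hb => ⟨fun hab => ?_, ?_⟩⟩
    · obtain ⟨b, hb, hjb⟩ := hex j hj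
      exact ⟨by simpa [hj] using key j b hj hb hjb i₀ b, by simpa [hj, hb] using (key b j hb hj hjb.symm b i₀).symm⟩
    · obtain ⟨c, hc, hbc⟩ := hex b hb
      simpa [Ne.symm hab, hbc] using key b c hb hc hbc a c
    · rcases eq_or_ne a b with rfl | hab
      · rfl
      · simpa using key a b ha hb hab a b
  have hZC : Z ≤ C := fun g hg => (hoff g).2 (hZ g hg).1
  have hZdiag : ∀ g ∈ Z, (g : Matrix ι ι F) = diagonal fun i => (g : Matrix ι ι F) i i := by
    intro g hg
    ext x y
    rcases eq_or_ne x y with rfl | hxy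
    · rw [diagonal_apply_eq]
    rw [diagonal_apply_ne _ hxy]
    rcases eq_or_ne x i₀ with rfl | hx
    · exact ((hZ g hg).1 y hxy.symm).1
    rcases eq_or_ne y i₀ with rfl | hy
    · exact ((hZ g hg).1 x hx).2
    exact ((hZ g hg).2 x y hx hy).1 hxy
  have hpow : ∀ g ∈ Z, ∀ a, a ≠ i₀ → (g : Matrix ι ι F) a a ^ (Fintype.card ι - 1) * (g : Matrix ι ι F) i₀ i₀ = 1 := by
    intro g hg a ha
    have h : (g : Matrix ι ι F).det = 1 := g.2
    rw [hZdiag g hg, det_diagonal, ← Finset.prod_erase_mul _ _ (Finset.mem_univ i₀)] at h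
    rw [Finset.prod_congr rfl (fun x hx => ((hZ g hg).2 x a (Finset.ne_of_mem_erase hx) ha).2),
      Finset.prod_const, Finset.card_erase_of_mem (Finset.mem_univ i₀), Finset.card_univ] at h
    exact h
  have htZ : t ∈ Z := by
    rw [hZdef, Subgroup.mem_centralizer_iff]
    intro g hg
    exact (Subgroup.mem_centralizer_singleton_iff.1 (hKC hg))
  have htne : t ≠ 1 := fun h => by
    obtain ⟨j, hj⟩ : ∃ j, j ≠ i₀ := Fintype.exists_ne_of_one_lt_card (by omega) i₀
    have h1 := congrArg (fun g : SpecialLinearGroup ι F => g.1 j j) h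
    simp [ht, hj] at h1
    exact hne h1
  have htord : orderOf t = 2 := by
    refine orderOf_eq_prime ?_ htne
    refine Subtype.ext ?_
    rw [pow_two]
    show t.1 * t.1 = (1 : Matrix ι ι F)
    rw [ht, diagonal_mul_diagonal, ← diagonal_one]
    congr 1
    funext i
    split_ifs <;> simp
  have huniq : ∀ g ∈ Z, orderOf g = 2 → g = t := by
    intro g hg hord
    have hsq : ∀ i, (g : Matrix ι ι F) i i * (g : Matrix ι ι F) i i = 1 := fun i => by
      have h := congrArg (fun x : SpecialLinearGroup ι F => x.1 i i) (hord ▸ pow_orderOf_eq_one g)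
      simp only [pow_two] at h
      change (g.1 * g.1) i i = (1 : Matrix ι ι F) i i at h
      rw [Matrix.one_apply_eq] at h
      rw [hZdiag g hg, diagonal_mul_diagonal, diagonal_apply_eq] at h
      exact h
    obtain ⟨m, hm⟩ := hodd
    have h0 : ∀ a, a ≠ i₀ → (g : Matrix ι ι F) i₀ i₀ = 1 := fun a ha => by
      have h := hpow g hg a ha
      rwa [show Fintype.card ι - 1 = 2 * m by omega, pow_mul, pow_two, hsq, one_pow, one_mul] at h
    obtain ⟨j, hj⟩ : ∃ j, j ≠ i₀ := Fintype.exists_ne_of_one_lt_card (by omega) i₀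
    have hj1 : (g : Matrix ι ι F) j j = -1 := by
      refine (mul_self_eq_one_iff.1 (hsq j)).resolve_left fun h1 => ?_
      have hg1 : g = 1 := by
        refine Subtype.ext ?_
        show g.1 = (1 : Matrix ι ι F)
        rw [hZdiag g hg, ← diagonal_one]
        congr 1
        funext i
        rcases eq_or_ne i i₀ with rfl | hi
        · exact h0 j hj
        · rw [((hZ g hg).2 i j hi hj).2, h1]
      rw [hg1, orderOf_one] at hord
      omega
    refine Subtype.ext ?_
    rw [hZdiag g hg, ht]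
    congr 1
    funext i
    split_ifs with hi
    · rw [hi]; exact h0 j hj
    · rw [((hZ g hg).2 i j hi hj).2, hj1]
  have hZcomm : ∀ g ∈ Z, ∀ g' ∈ Z, g * g' = g' * g := fun g hg g' hg' => Subtype.ext (by
    show g.1 * g'.1 = g'.1 * g.1
    rw [hZdiag g hg, hZdiag g' hg', diagonal_mul_diagonal,
      diagonal_mul_diagonal]
    congr 1
    funext i
    exact mul_comm _ _)
  have hnK : Subgroup.normalizer (K : Set (SpecialLinearGroup ι F)) ≤
      Subgroup.normalizer (Z : Set (SpecialLinearGroup ι F)) :=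
    CfsgLib.Solvable.normalizer_le_normalizer_centralizer K
  have hfix : ∀ g, ∀ x ∈ Z, orderOf x = 2 → g⁻¹ * x * g ∈ Z → g ∈ C := by
    intro g x hx hord hxg
    have h1 := huniq x hx hord
    have h2 := huniq _ hxg (by
      rw [show g⁻¹ * x * g = MulAut.conj g⁻¹ x by simp, ← hord]
      exact MulEquiv.orderOf_eq _ x)
    rw [hCdef, Subgroup.mem_centralizer_singleton_iff]
    rw [h1, mul_assoc, inv_mul_eq_iff_eq_mul] at h2
    exact h2.symm
  refine ⟨hqs, ⟨?_, fun g hg => ?_⟩, fun g hg hcom => ?_, le_antisymm hnK fun g hg => ?_⟩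
  · rw [even_iff_two_dvd, ← htord]
    exact Subgroup.orderOf_dvd_natCard Z htZ
  · rw [← Nat.not_even_iff_odd, even_iff_two_dvd]
    intro hdvd
    haveI : Fact (Nat.Prime 2) := ⟨Nat.prime_two⟩
    obtain ⟨⟨x, hx1, hx2⟩, hord⟩ := exists_prime_orderOf_dvd_card' 2 hdvd
    rw [← Subgroup.orderOf_coe] at hord
    simp only at hord
    obtain ⟨y, hy, rfl⟩ := hx2
    exact hg (hnK (hCK (hfix g _ hx1 hord (by simpa [mul_assoc] using hy))))
  · rw [Subgroup.commutator_eq_bot_iff_le_centralizer, Subgroup.le_centralizer_iff] at hcom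
    have hab : ∀ a ∈ K, ∀ b ∈ K, a * b = b * a := fun a ha b hb => (MulAut.conj g).injective (by
      rw [map_mul, map_mul]
      exact hZcomm _ (hcom ⟨a, ha, rfl⟩) _ (hcom ⟨b, hb, rfl⟩))
    exact CfsgLib.Cores.center_ne_top_of_isQuasisimple hqs ((Subgroup.eq_top_iff' _).2 fun a =>
      Subgroup.mem_center_iff.2 fun b => Subtype.ext (hab b b.2 a a.2))
  · exact hCK (hfix g t htZ htord ((Subgroup.mem_normalizer_iff''.1 hg t).1 htZ))

end CfsgLib.Components.SLBlock
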